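import Cfsg.Agent.Lib.Fusion.PSUThree.Classes
import Cfsg.Agent.Lib.Fusion.System.SimpleSmallTwo

/-!
# The 2-fusion system of `PSU₃(q)`, `q` odd
-/

set_option autoImplicit false
set_option linter.style.haveILetI false

open Matrix

namespace CfsgLib.PSUThreeTwo

open CfsgLib.SU

variable {F : Type*} [Field F] {q : ℕ} (C : UCtx F q)

/-- `A ↦ diag (A, det A⁻¹)`. -/
def blockMat (A : Matrix (Fin 2) (Fin 2) F) : Matrix (Fin 3) (Fin 3) F :=
  !![A 0 0, A 0 1, 0; A 1 0, A 1 1, 0; 0, 0, A.det⁻¹]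

theorem det_blockMat (A : ↥(Cfsg.GU 2 F q)) : (blockMat A.1.1).det = 1 := by
  have h := (Matrix.GeneralLinearGroup.det A.1).ne_zero
  rw [Matrix.GeneralLinearGroup.val_det_apply, Matrix.det_fin_two] at h
  rw [Matrix.det_fin_three]
  simp [blockMat, Matrix.det_fin_two, Matrix.vecHead, Matrix.vecTail]
  field_simp

theorem blockMat_mul (A B : Matrix (Fin 2) (Fin 2) F) :
    blockMat (A * B) = blockMat A * blockMat B := by
  ext i j
  fin_cases i <;> fin_cases j <;>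
    simp [blockMat, Matrix.mul_apply, Fin.sum_univ_three, Fin.sum_univ_two, mul_comm]

theorem form_three (u v : Fin 3 → F) :
    C.form u v = u 0 * C.bar (v 0) + u 1 * C.bar (v 1) + u 2 * C.bar (v 2) := by
  simp [UCtx.form, Fin.sum_univ_three]

theorem mem_su_of_form (M : Matrix.SpecialLinearGroup (Fin 3) F)
    (h : ∀ u v : Fin 3 → F, C.form (M.1 *ᵥ u) (M.1 *ᵥ v) = C.form u v) : M ∈ Cfsg.SU 3 F q := by
  intro u v
  have h' := h u v
  rw [← C.hermForm_eq, ← C.hermForm_eq] at h'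
  exact h'

theorem blockMat_form (A : ↥(Cfsg.GU 2 F q)) (u v : Fin 3 → F) :
    C.form (blockMat A.1.1 *ᵥ u) (blockMat A.1.1 *ᵥ v) = C.form u v := by
  have h := form_gu C A ![u 0, u 1] ![v 0, v 1]
  rw [form_two, form_two] at h
  have hd : A.1.1.det * C.bar A.1.1.det = 1 :=
    (C.detHom A).2
  have hd' : (A.1.1.det)⁻¹ * C.bar (A.1.1.det)⁻¹ = 1 := by rw [map_inv₀, ← mul_inv, hd, inv_one]
  simp only [Matrix.mulVec, dotProduct, Fin.sum_univ_two, Matrix.cons_val_zero,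
    Matrix.cons_val_one] at h
  simp [form_three, blockMat, Matrix.mulVec, dotProduct, Fin.sum_univ_three]
  simp [map_inv₀] at hd'
  simp at h
  linear_combination h + (u 2 * C.bar (v 2)) * hd'

include C in
/-- The embedding of `GU₂` in `SU₃`. -/
def toSU : ↥(Cfsg.GU 2 F q) →* ↥(Cfsg.SU 3 F q) where
  toFun A := ⟨⟨blockMat A.1.1, det_blockMat A⟩, mem_su_of_form C _ (blockMat_form C A)⟩
  map_one' := by
    refine Subtype.ext (Subtype.ext ?_)
    show blockMat (1 : Matrix (Fin 2) (Fin 2) F) = 1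
    ext i j
    fin_cases i <;> fin_cases j <;> simp [blockMat]
  map_mul' A B := Subtype.ext (Subtype.ext (blockMat_mul A.1.1 B.1.1))

/-- The induced map to `PSU₃`. -/
def toPSU : ↥(Cfsg.GU 2 F q) →* Cfsg.PSU 3 F q := (QuotientGroup.mk' _).comp (toSU C)

include C in
theorem exists_conj_of_eq {X Y : ↥(Cfsg.SU 3 F q)} {M : Matrix (Fin 3) (Fin 3) F}
    (hM : M.det = 1) (hMu : ∀ u v : Fin 3 → F, C.form (M *ᵥ u) (M *ᵥ v) = C.form u v)
    (h : M * X.1.1 = Y.1.1 * M) :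
    ∃ g : Cfsg.PSU 3 F q, g * QuotientGroup.mk X * g⁻¹ = QuotientGroup.mk Y := by
  let N : ↥(Cfsg.SU 3 F q) := ⟨⟨M, hM⟩, mem_su_of_form C _ hMu⟩
  refine ⟨QuotientGroup.mk N, ?_⟩
  have e : N * X = Y * N := Subtype.ext (Subtype.ext h)
  rw [← QuotientGroup.mk_inv, ← QuotientGroup.mk_mul, ← QuotientGroup.mk_mul, e,
    mul_inv_cancel_right]

variable [Fintype F]

theorem toPSU_ker {A : ↥(Cfsg.GU 2 F q)} (h : toPSU C A = 1) : A ^ 3 = 1 := by
  obtain ⟨c, hc, hc3⟩ := C.scalar_of_mem_center le_rfl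
    (show toSU C A ∈ Subgroup.center _ from (QuotientGroup.eq_one_iff _).1 h)
  have hval : blockMat A.1.1 = ((c : Fˣ) : F) • (1 : Matrix (Fin 3) (Fin 3) F) := by
    rw [← C.gscal_val c, ← hc]; rfl
  have e : ∀ i j, blockMat A.1.1 i j = (((c : Fˣ) : F) • (1 : Matrix (Fin 3) (Fin 3) F)) i j :=
    fun i j => by rw [hval]
  have hA : A.1.1 = ((c : Fˣ) : F) • (1 : Matrix (Fin 2) (Fin 2) F) := by
    ext i j
    fin_cases i <;> fin_cases j
    · simpa [blockMat] using e 0 0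
    · simpa [blockMat] using e 0 1
    · simpa [blockMat] using e 1 0
    · simpa [blockMat] using e 1 1
  refine Subtype.ext (Units.ext ?_)
  rw [SubgroupClass.coe_pow, Units.val_pow_eq_pow_val, hA, smul_pow, one_pow,
    show ((c : Fˣ) : F) ^ 3 = 1 by
      rw [← Units.val_pow_eq_pow_val, ← SubgroupClass.coe_pow, hc3]; rfl, one_smul]
  rfl

theorem eq_one_of_toPSU {A : ↥(Cfsg.GU 2 F q)} {k : ℕ} (h : toPSU C A = 1) (hk : A ^ 2 ^ k = 1) :
    A = 1 := by
  have h3 := toPSU_ker C h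
  have : A ^ (Nat.gcd 3 (2 ^ k)) = 1 := pow_gcd_eq_one.2 ⟨h3, hk⟩
  rwa [Nat.Coprime.gcd_eq_one ((Nat.Coprime.pow_right k (by norm_num : Nat.Coprime 3 2))),
    pow_one] at this

theorem orderOf_toPSU {P : Subgroup ↥(Cfsg.GU 2 F q)} (hP : IsPGroup 2 P)
    {A : ↥(Cfsg.GU 2 F q)} (hA : A ∈ P) : orderOf (toPSU C A) = orderOf A := by
  obtain ⟨k, hk⟩ := hP ⟨A, hA⟩
  have hk' : A ^ 2 ^ k = 1 := congrArg Subtype.val hk
  refine Nat.dvd_antisymm (orderOf_map_dvd _ A) (orderOf_dvd_of_pow_eq_one ?_)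
  refine eq_one_of_toPSU C (k := k) (by rw [map_pow, pow_orderOf_eq_one]) ?_
  rw [← pow_mul, mul_comm, pow_mul, hk', one_pow]

include C in
theorem card_PSU_three (hF : Fintype.card F = q ^ 2) :
    Nat.card (Cfsg.PSU 3 F q) * Nat.gcd 3 (q + 1) =
      Nat.card ↥(Cfsg.GU 2 F q) * (q ^ 2 * (q ^ 2 - q + 1)) := by
  have h1 := Subgroup.card_eq_card_quotient_mul_card_subgroup (Subgroup.center ↥(Cfsg.SU 3 F q))
  rw [C.card_center_su hF le_rfl] at h1
  have h2 := CfsgLib.Classical.card_su_mul C hF (n := 3) (by norm_num)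
  have hq := CfsgLib.Classical.two_le_q hF
  rw [h1, CfsgLib.Classical.card_gu_formula C hF 3] at h2
  rw [CfsgLib.Classical.card_gu_formula C hF 2]
  simp only [Finset.prod_range_succ, Finset.prod_range_zero, one_mul] at h2 ⊢
  simp only [Nat.zero_add, pow_one, show (3 * (3 - 1) / 2 : ℕ) = 3 from rfl,
    show (2 * (2 - 1) / 2 : ℕ) = 1 from rfl, if_pos (Even.zero (α := ℕ)),
    if_neg Nat.not_even_one, if_pos even_two] at h2 ⊢
  obtain ⟨r, rfl⟩ : ∃ r, q = r + 2 := ⟨q - 2, by omega⟩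
  refine Nat.eq_of_mul_eq_mul_left (show 0 < r + 2 + 1 by omega) (h2.trans ?_)
  rw [show (r + 2) ^ (1 + 1) = (r + 2) ^ 2 from rfl, show (r + 2) ^ (2 + 1) = (r + 2) ^ 3 from rfl,
    show (r + 2) ^ 2 - (r + 2) + 1 = r * r + 3 * r + 3 by
      rw [show (r + 2) ^ 2 = (r * r + 3 * r + 2) + (r + 2) by ring, Nat.add_sub_cancel]]
  ring

/-- The image of a Sylow 2-subgroup of `GU₂` is Sylow in `PSU₃`. -/
theorem exists_sylow_image (hF : Fintype.card F = q ^ 2) (hodd : q % 2 = 1)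
    (P : Sylow 2 ↥(Cfsg.GU 2 F q)) :
    ∃ S : Sylow 2 (Cfsg.PSU 3 F q),
      (S : Subgroup (Cfsg.PSU 3 F q)) = (P : Subgroup ↥(Cfsg.GU 2 F q)).map (toPSU C) ∧
      Nonempty ((P : Subgroup ↥(Cfsg.GU 2 F q)) ≃* (S : Subgroup (Cfsg.PSU 3 F q))) := by
  classical
  haveI : Fact (Nat.Prime 2) := ⟨Nat.prime_two⟩
  set S₀ := (P : Subgroup ↥(Cfsg.GU 2 F q)).map (toPSU C) with hS₀
  let f : (P : Subgroup ↥(Cfsg.GU 2 F q)) →* S₀ :=
    ((toPSU C).comp (P : Subgroup ↥(Cfsg.GU 2 F q)).subtype).codRestrict S₀ fun a =>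
      Subgroup.mem_map_of_mem _ a.2
  have hf : Function.Bijective f := by
    refine ⟨(injective_iff_map_eq_one f).2 fun a ha => ?_, ?_⟩
    · obtain ⟨k, hk⟩ := P.2 a
      exact Subtype.ext (eq_one_of_toPSU C (k := k) (congrArg Subtype.val ha)
        (congrArg Subtype.val hk))
    · rintro ⟨_, a, ha, rfl⟩
      exact ⟨⟨a, ha⟩, rfl⟩
  let e := MulEquiv.ofBijective f hf
  have hp : IsPGroup 2 S₀ := P.2.of_equiv e
  have hidx : ¬ 2 ∣ S₀.index := by
    intro h2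
    obtain ⟨k, r, hr, hk⟩ := CfsgLib.Invol.exists_two_pow_mul_odd
      (a := Nat.card ↥(Cfsg.GU 2 F q)) Nat.card_pos.ne'
    have he := card_PSU_three C hF
    have hS : Nat.card S₀ = 2 ^ k := by
      rw [← Nat.card_congr e.toEquiv, CfsgLib.Invol.card_sylow_of_eq P hk hr]
    rw [← S₀.card_mul_index, hS, hk, mul_assoc, mul_assoc (2 ^ k)] at he
    have h3 := Nat.eq_of_mul_eq_mul_left (Nat.two_pow_pos k) he
    have hodd' : Odd (r * (q ^ 2 * (q ^ 2 - q + 1))) := by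
      have hqo : Odd q := Nat.odd_iff.2 hodd
      refine hr.mul (hqo.pow.mul ?_)
      refine Even.add_odd ?_ odd_one
      exact (Nat.even_sub (Nat.le_self_pow two_ne_zero q)).2
        (iff_of_false (Nat.not_even_iff_odd.2 hqo.pow) (Nat.not_even_iff_odd.2 hqo))
    exact Nat.not_even_iff_odd.2 hodd' (even_iff_two_dvd.2 (h3 ▸ h2.mul_right _))
  exact ⟨hp.toSylow hidx, rfl, ⟨e⟩⟩

/-! ### Fusion of involutions -/

include C in
/-- A reflection. -/
def reflU : ↥(Cfsg.GU 2 F q) :=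
  ⟨Matrix.GeneralLinearGroup.mkOfDetNeZero !![1, 0; 0, -1] (by simp [Matrix.det_fin_two]),
    C.mem_gu_iff.2 fun u v => by simp [form_two, Matrix.mulVec, dotProduct, Fin.sum_univ_two]⟩

include C in
/-- Minus the identity. -/
def negU : ↥(Cfsg.GU 2 F q) :=
  ⟨Matrix.GeneralLinearGroup.mkOfDetNeZero !![-1, 0; 0, -1] (by simp [Matrix.det_fin_two]),
    C.mem_gu_iff.2 fun u v => by simp [form_two, Matrix.mulVec, dotProduct, Fin.sum_univ_two]⟩

theorem isConj_toPSU_invol (h2 : (2 : F) ≠ 0) {A : ↥(Cfsg.GU 2 F q)}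
    (hA : A.1.1 * A.1.1 = 1) (hA1 : A.1.1 ≠ 1) : IsConj (toPSU C (reflU C)) (toPSU C A) := by
  by_cases hm : A.1.1 = -1
  · have e : A = negU C := by
      refine Subtype.ext (Units.ext ?_)
      rw [hm]
      show (-1 : Matrix (Fin 2) (Fin 2) F) = !![-1, 0; 0, -1]
      ext i j; fin_cases i <;> fin_cases j <;> simp
    obtain ⟨g, hg⟩ := exists_conj_of_eq C (X := toSU C (negU C)) (Y := toSU C (reflU C))
      (M := !![0, 0, 1; 1, 0, 0; 0, 1, 0]) (by simp [Matrix.det_fin_three]) (fun u v => by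
        simp [form_three, Matrix.mulVec, dotProduct, Fin.sum_univ_three]; ring) (by
        show _ * blockMat !![(-1 : F), 0; 0, -1] = blockMat !![(1 : F), 0; 0, -1] * _
        ext i j
        fin_cases i <;> fin_cases j <;>
          simp [blockMat, Matrix.mul_apply, Fin.sum_univ_three, Matrix.det_fin_two])
    rw [e]
    exact (isConj_iff.2 ⟨g, hg⟩).symm
  · refine MonoidHom.map_isConj (toPSU C) (isConj_invol C h2 ?_ ?_ ?_ hA hA1 hm)
    · show !![(1 : F), 0; 0, -1] * !![1, 0; 0, -1] = 1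
      ext i j; fin_cases i <;> fin_cases j <;> simp [Matrix.mul_apply, Fin.sum_univ_two]
    · show !![(1 : F), 0; 0, -1] ≠ 1
      intro h
      have h' := congrFun (congrFun h 1) 1
      simp at h'
      exact h2 (by linear_combination -h')
    · show !![(1 : F), 0; 0, -1] ≠ -1
      intro h
      have h' := congrFun (congrFun h 0) 0
      simp at h'
      exact h2 (by linear_combination h')

theorem mat_sq_of_orderOf {A : ↥(Cfsg.GU 2 F q)} {m : ℕ} (h : orderOf A = m) :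
    (A.1.1) ^ m = 1 := by
  have e : A ^ m = 1 := h ▸ pow_orderOf_eq_one A
  have e' := congrArg (fun X : ↥(Cfsg.GU 2 F q) => X.1.1) e
  simpa using e'

theorem hinv_image (h2 : (2 : F) ≠ 0) {P : Subgroup ↥(Cfsg.GU 2 F q)} (hP : IsPGroup 2 P)
    {x y : Cfsg.PSU 3 F q} (hx : x ∈ P.map (toPSU C)) (hy : y ∈ P.map (toPSU C))
    (hx2 : orderOf x = 2) (hy2 : orderOf y = 2) : ∃ g, g * x * g⁻¹ = y := by
  obtain ⟨A, hA, rfl⟩ := hx
  obtain ⟨B, hB, rfl⟩ := hy
  rw [orderOf_toPSU C hP hA] at hx2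
  rw [orderOf_toPSU C hP hB] at hy2
  have key : ∀ X : ↥(Cfsg.GU 2 F q), orderOf X = 2 → IsConj (toPSU C (reflU C)) (toPSU C X) :=
    fun X hX => isConj_toPSU_invol C h2 (by rw [← pow_two]; exact mat_sq_of_orderOf hX) fun e => by
      rw [show X = 1 from Subtype.ext (Units.ext e), orderOf_one] at hX; omega
  exact isConj_iff.1 ((key A hx2).symm.trans (key B hy2))

/-! ### The two cases -/

include C in
theorem hasSimpleData_one (hF : Fintype.card F = q ^ 2) (h1 : q % 4 = 1) :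
    ∃ S : Sylow 2 (Cfsg.PSU 3 F q), CfsgLib.Fusion.HasSimpleData (S : Subgroup (Cfsg.PSU 3 F q)) := by
  classical
  haveI : Fact (Nat.Prime 2) := ⟨Nat.prime_two⟩
  have h2 : (2 : F) ≠ 0 := Ring.two_ne_zero fun h => by
    have := FiniteField.even_card_iff_char_two.1 h
    rw [hF, Nat.pow_mod, show q % 2 = 1 by omega] at this
    omega
  obtain ⟨k, hk⟩ : ∃ k, q = 4 * k + 1 := ⟨q / 4, by omega⟩
  have hnorm : ∀ t : F, t * t = -1 → t * C.bar t = -1 := fun t ht => by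
    rw [C.bar_eq, ← pow_succ', show q + 1 = 2 * (2 * k + 1) by omega, pow_mul, pow_two, ht,
      Odd.neg_one_pow ⟨k, rfl⟩]
  obtain ⟨ι, hι⟩ : IsSquare (-1 : F) := FiniteField.isSquare_neg_one_iff.2 (by
    rw [hF, Nat.pow_mod, h1]; decide)
  obtain ⟨P⟩ : Nonempty (Sylow 2 ↥(Cfsg.GU 2 F q)) := inferInstance
  obtain ⟨S, hS, ⟨e⟩⟩ := exists_sylow_image C hF (by omega) P
  have hq : Cfsg.IsQuasiDihedral (S : Subgroup (Cfsg.PSU 3 F q)) := by
    have hq' : Cfsg.IsQuasiDihedral ↥(P : Subgroup ↥(Cfsg.GU 2 F q)) :=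
      CfsgLib.Invol.isQuasiDihedral_gu2 hF h1 P
    obtain ⟨n, hn, hc, x, y, hx, hy, hxy⟩ := hq'
    refine ⟨n, hn, by rw [← Nat.card_congr e.toEquiv]; exact hc, e x, e y, ?_, ?_, ?_⟩
    · rw [MulEquiv.orderOf_eq]; exact hx
    · rw [MulEquiv.orderOf_eq]; exact hy
    · rw [← map_inv, ← map_mul, ← map_mul, ← map_pow]; exact congrArg e hxy
  refine ⟨S, CfsgLib.Fusion.hasSimpleData_quasiDihedral S hq ?_ ?_⟩
  · rw [hS]; exact fun x y => hinv_image C h2 P.2
  · rw [hS]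
    intro x y hx hy hx4 hy4
    obtain ⟨A, hA, rfl⟩ := hx
    obtain ⟨B, hB, rfl⟩ := hy
    rw [orderOf_toPSU C P.2 hA] at hx4
    rw [orderOf_toPSU C P.2 hB] at hy4
    have key : ∀ X : ↥(Cfsg.GU 2 F q), orderOf X = 4 → X.1.1 * X.1.1 = -1 := fun X hX => by
      refine sq_four C h2 hnorm ?_ fun e => ?_
      · have := mat_sq_of_orderOf hX
        rwa [show X.1.1 * X.1.1 * (X.1.1 * X.1.1) = X.1.1 ^ 4 by simp [pow_succ, mul_assoc]]
      · have h' : X ^ 2 = 1 := Subtype.ext (Units.ext (by rw [pow_two]; exact e))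
        have := orderOf_dvd_of_pow_eq_one h'
        rw [hX] at this
        omega
    exact isConj_iff.1 (MonoidHom.map_isConj (toPSU C)
      (isConj_four C h2 hι.symm (hnorm ι hι.symm) (key A hx4) (key B hy4)))

include C in
theorem hasSimpleData_three (hF : Fintype.card F = q ^ 2) (h3 : q % 4 = 3) :
    ∃ S : Sylow 2 (Cfsg.PSU 3 F q), CfsgLib.Fusion.HasSimpleData (S : Subgroup (Cfsg.PSU 3 F q)) := by
  classical
  haveI : Fact (Nat.Prime 2) := ⟨Nat.prime_two⟩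
  have hodd : q % 2 = 1 := by omega
  have h2 : (2 : F) ≠ 0 := Ring.two_ne_zero fun h => by
    have := FiniteField.even_card_iff_char_two.1 h
    rw [hF, Nat.pow_mod, hodd] at this
    omega
  obtain ⟨n, s, hs, hns⟩ := CfsgLib.Invol.exists_two_pow_mul_odd (a := q + 1) (by omega)
  obtain ⟨r, hr, hr'⟩ : ∃ r, q - 1 = 2 * r ∧ Odd r :=
    ⟨(q - 1) / 2, by omega, Nat.odd_iff.2 (by omega)⟩
  obtain ⟨ζ₀, hζ₀⟩ := CfsgLib.Invol.exists_unit_orderOf (K := F) (d := 2 ^ n) ⟨s * (q - 1), by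
    rw [Nat.card_eq_fintype_card, hF, show q ^ 2 - 1 = (q + 1) * (q - 1) by
      simpa using Nat.sq_sub_sq q 1, hns, mul_assoc]⟩
  have hmemU : ζ₀ ∈ C.unitOne := by
    rw [C.mem_unitOne, C.bar_eq, ← pow_succ', ← Units.val_pow_eq_pow_val,
      orderOf_dvd_iff_pow_eq_one.1 (show orderOf ζ₀ ∣ q + 1 from hζ₀ ▸ ⟨s, hns⟩), Units.val_one]
  set ζ : C.unitOne := ⟨ζ₀, hmemU⟩
  have hζ : orderOf ζ = 2 ^ n := by rw [Subgroup.orderOf_mk]; exact hζ₀
  let D : C.unitOne × C.unitOne →* ↥(Cfsg.GU 2 F q) :=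
    { toFun := fun f => ⟨Matrix.GeneralLinearGroup.mkOfDetNeZero
          !![((f.1 : Fˣ) : F), 0; 0, ((f.2 : Fˣ) : F)] (by simp [Matrix.det_fin_two]),
        C.mem_gu_iff.2 fun u v => by
          have e1 := C.mem_unitOne.1 f.1.2
          have e2 := C.mem_unitOne.1 f.2.2
          simp [form_two, Matrix.mulVec, dotProduct, Fin.sum_univ_two]
          linear_combination (u 0 * C.bar (v 0)) * e1 + (u 1 * C.bar (v 1)) * e2⟩
      map_one' := Subtype.ext (Units.ext (by ext i j; fin_cases i <;> fin_cases j <;> simp))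
      map_mul' := fun f g => Subtype.ext (Units.ext (by
        ext i j
        fin_cases i <;> fin_cases j <;> simp [Matrix.mul_apply, Fin.sum_univ_two])) }
  have hD : Function.Injective D := fun f g e => by
    have e1 := congrFun (congrFun (congrArg (fun v : ↥(Cfsg.GU 2 F q) => v.1.1) e) 0) 0
    have e2 := congrFun (congrFun (congrArg (fun v : ↥(Cfsg.GU 2 F q) => v.1.1) e) 1) 1
    exact Prod.ext (Subtype.ext (Units.ext (by simpa [D] using e1)))
      (Subtype.ext (Units.ext (by simpa [D] using e2)))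
  let z : ↥(Cfsg.GU 2 F q) := ⟨Matrix.GeneralLinearGroup.mkOfDetNeZero !![0, 1; 1, 0]
    (by simp [Matrix.det_fin_two]), C.mem_gu_iff.2 fun u v => by
      simp [form_two, Matrix.mulVec, dotProduct, Fin.sum_univ_two]; ring⟩
  have hzz : z * z = 1 := Subtype.ext (Units.ext (by
    ext i j; fin_cases i <;> fin_cases j <;> simp [z, Matrix.mul_apply, Fin.sum_univ_two]))
  have hzi : z⁻¹ = z := inv_eq_of_mul_eq_one_left hzz
  have hswap : ∀ f : C.unitOne × C.unitOne, z * D f * z⁻¹ = D (f.2, f.1) := fun f => by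
    rw [hzi]
    refine Subtype.ext (Units.ext ?_)
    ext i j
    fin_cases i <;> fin_cases j <;> simp [z, D, Matrix.mul_apply, Fin.sum_univ_two]
  set U := ((Subgroup.zpowers ζ).prod (Subgroup.zpowers ζ)).map D with hU
  have hUc : Nat.card U = 2 ^ (2 * n) := by
    rw [hU, Subgroup.card_map_of_injective hD,
      Nat.card_congr (Subgroup.prodEquiv _ _).toEquiv, Nat.card_prod, Nat.card_zpowers, hζ, two_mul,
      pow_add]
  have hmem : ∀ a b : C.unitOne, a ∈ Subgroup.zpowers ζ → b ∈ Subgroup.zpowers ζ → D (a, b) ∈ U :=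
    fun a b ha hb => Subgroup.mem_map_of_mem _ ⟨ha, hb⟩
  have hzU : z ∉ U := by
    rintro ⟨f, -, e⟩
    have e1 := congrFun (congrFun (congrArg (fun v : ↥(Cfsg.GU 2 F q) => v.1.1) e) 0) 1
    simp [z, D] at e1
  have hzn : z ∈ Subgroup.normalizer (U : Set ↥(Cfsg.GU 2 F q)) := by
    have key : ∀ u ∈ U, z * u * z⁻¹ ∈ U := by
      rintro _ ⟨⟨a, b⟩, ⟨ha, hb⟩, rfl⟩
      rw [hswap]; exact hmem _ _ hb ha
    refine Subgroup.mem_normalizer_iff.2 fun u => ⟨key u, fun hu => ?_⟩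
    have := key _ hu
    rwa [show z * (z * u * z⁻¹) * z⁻¹ = z * z * u * (z * z)⁻¹ by group, hzz, one_mul, inv_one,
      mul_one] at this
  have hz2 : orderOf z = 2 := orderOf_eq_prime (by rw [pow_two, hzz]) fun e => hzU (e ▸ one_mem U)
  have hp : IsPGroup 2 ↥(Subgroup.zpowers z ⊔ U) :=
    IsPGroup.to_sup_of_normal_right'
      (IsPGroup.of_card (n := 1) (by rw [Nat.card_zpowers, hz2, pow_one]))
      (IsPGroup.of_card hUc) (Subgroup.zpowers_le.2 hzn)
  obtain ⟨P, hP⟩ := hp.exists_le_sylow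
  have hPc : Nat.card (P : Subgroup ↥(Cfsg.GU 2 F q)) = 2 ^ (2 * n + 1) :=
    CfsgLib.Invol.card_sylow_of_eq P (r := s * s * r * q) (by
      show Nat.card (CfsgLib.Invol.gu2 F q) = _
      rw [CfsgLib.Invol.card_gu2_eq hF, hns, hr]; ring)
      (((hs.mul hs).mul hr').mul (Nat.odd_iff.2 hodd))
  have hPeq : (P : Subgroup ↥(Cfsg.GU 2 F q)) = Subgroup.zpowers z ⊔ U := by
    refine (Subgroup.eq_of_le_of_card_ge hP ?_).symm
    rw [hPc]
    obtain ⟨j, hj⟩ := hp.exists_card_eq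
    have h3 : U < Subgroup.zpowers z ⊔ U :=
      lt_of_le_of_ne le_sup_right fun e => hzU (e ▸ Subgroup.mem_sup_left (Subgroup.mem_zpowers z))
    have h4 : Nat.card U < Nat.card ↥(Subgroup.zpowers z ⊔ U) := by
      refine lt_of_le_of_ne (Subgroup.card_le_of_le h3.le) fun e => h3.ne ?_
      exact Subgroup.eq_of_le_of_card_ge h3.le e.ge
    rw [hUc, hj, Nat.pow_lt_pow_iff_right (by norm_num)] at h4
    rw [hj]
    exact Nat.pow_le_pow_right (by norm_num) h4
  set x := D (ζ, 1) with hx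
  set y := D (1, ζ) with hy
  have hxU : x ∈ U := hmem _ _ (Subgroup.mem_zpowers ζ) (one_mem _)
  have hyx : z * x * z⁻¹ = y := hswap _
  have hgenU : U ≤ Subgroup.closure {x, z} := by
    rintro _ ⟨⟨a, b⟩, ⟨⟨i, hi⟩, ⟨j, hj⟩⟩, rfl⟩
    have hxm : x ∈ Subgroup.closure {x, z} := Subgroup.subset_closure (by simp)
    have hzm : z ∈ Subgroup.closure {x, z} := Subgroup.subset_closure (by simp)
    have hym : y ∈ Subgroup.closure {x, z} := hyx ▸ mul_mem (mul_mem hzm hxm) (inv_mem hzm)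
    have e : D (a, b) = x ^ i * y ^ j := by
      rw [hx, hy, ← map_zpow, ← map_zpow, ← map_mul]
      refine congrArg D (Prod.ext ?_ ?_) <;> simp_all
    rw [e]
    exact mul_mem (zpow_mem hxm i) (zpow_mem hym j)
  obtain ⟨S, hS, ⟨e⟩⟩ := exists_sylow_image C hF hodd P
  have hw : Cfsg.IsWreathed (S : Subgroup (Cfsg.PSU 3 F q)) := by
    have hw' : Cfsg.IsWreathed ↥(P : Subgroup ↥(Cfsg.GU 2 F q)) :=
      CfsgLib.Invol.isWreathed_gu2 hF h3 P
    obtain ⟨m, hm, hc, x', y', z', h1', h2', h3', h4', h5'⟩ := hw'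
    refine ⟨m, hm, by rw [← Nat.card_congr e.toEquiv]; exact hc, e x', e y', e z', ?_, ?_, ?_, ?_, ?_⟩
    · rw [MulEquiv.orderOf_eq]; exact h1'
    · rw [← map_mul, ← map_mul]; exact congrArg e h2'
    · rw [eq_bot_iff]
      rintro _ ⟨⟨i, hi⟩, ⟨j, hj⟩⟩
      have h6 : x' ^ i ∈ Subgroup.zpowers x' ⊓ Subgroup.zpowers y' :=
        ⟨⟨i, rfl⟩, ⟨j, e.injective ((map_zpow e y' j).trans (hj.trans (hi.symm.trans (map_zpow e x' i).symm)))⟩⟩
      rw [h3', Subgroup.mem_bot] at h6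
      rw [Subgroup.mem_bot, ← hi]
      exact (map_zpow e x' i).symm.trans ((congrArg e h6).trans (map_one e))
    · rw [MulEquiv.orderOf_eq]; exact h4'
    · rw [← map_inv, ← map_mul, ← map_mul]; exact congrArg e h5'
  have hzP : z ∈ (P : Subgroup ↥(Cfsg.GU 2 F q)) :=
    hP (Subgroup.mem_sup_left (Subgroup.mem_zpowers z))
  have hxP : x ∈ (P : Subgroup ↥(Cfsg.GU 2 F q)) := hP (Subgroup.mem_sup_right hxU)
  refine ⟨S, CfsgLib.Fusion.hasSimpleData_wreathed S hw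
    (by rw [hS]; exact fun u v => hinv_image C h2 P.2)
    (x := toPSU C x) (z := toPSU C z) (hS ▸ Subgroup.mem_map_of_mem _ hxP)
    (hS ▸ Subgroup.mem_map_of_mem _ hzP) (by rw [orderOf_toPSU C P.2 hzP, hz2]) ?_ ?_⟩
  · rw [hS, hPeq, Subgroup.map_le_iff_le_comap]
    refine (sup_le (Subgroup.zpowers_le.2 (Subgroup.subset_closure (by simp))) hgenU).trans
      ((Subgroup.closure_le _).2 ?_)
    rintro u (rfl | rfl) <;> exact Subgroup.subset_closure (by simp)
  · rw [← map_inv, ← map_mul, ← map_mul, ← map_inv, ← map_mul, hyx, hx, hy, ← map_inv, ← map_mul,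
      Prod.inv_mk, inv_one, Prod.mk_mul_mk, mul_one, one_mul]
    refine exists_conj_of_eq C (X := toSU C (D (ζ, ζ⁻¹))) (Y := toSU C (D (ζ, 1)))
      (M := !![-1, 0, 0; 0, 0, 1; 0, 1, 0]) (by simp [Matrix.det_fin_three]) (fun u v => by
        simp [form_three, Matrix.mulVec, dotProduct, Fin.sum_univ_three]; ring) ?_
    show _ * blockMat (D (ζ, ζ⁻¹)).1.1 = blockMat (D (ζ, 1)).1.1 * _
    ext i j
    fin_cases i <;> fin_cases j <;>
      simp [blockMat, D, Matrix.mul_apply, Fin.sum_univ_three, Matrix.det_fin_two]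

/-- The 2-fusion system of `PSU₃(q)`, `q` odd, is simple. -/
theorem isSimple {F : Type*} [Field F] [Fintype F] {q : ℕ} (hF : Fintype.card F = q ^ 2)
    (hodd : q % 2 = 1) (S : Sylow 2 (Cfsg.PSU 3 F q)) :
    (Cfsg.groupFusionSystem (S : Subgroup (Cfsg.PSU 3 F q))).IsSimple 2 := by
  classical
  haveI : Fact (Nat.Prime 2) := ⟨Nat.prime_two⟩
  obtain ⟨C⟩ := CfsgLib.Classical.uctx_exists hF
  rcases (by omega : q % 4 = 1 ∨ q % 4 = 3) with h | h
  · obtain ⟨P, hP⟩ := hasSimpleData_one C hF h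
    exact CfsgLib.Fusion.isSimple_group_of_data P hP S
  · obtain ⟨P, hP⟩ := hasSimpleData_three C hF h
    exact CfsgLib.Fusion.isSimple_group_of_data P hP S

end CfsgLib.PSUThreeTwo
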