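import Cfsg.Agent.Lib.Classical.HermOrder
import Cfsg.Agent.Lib.Invol.UnitaryTwo

/-!
# Involutions and elements of order four in `GU₂(q)`
-/

set_option autoImplicit false

open Matrix

namespace CfsgLib.PSUThreeTwo

open CfsgLib.SU

variable {F : Type*} [Field F] {q : ℕ} (C : UCtx F q)

theorem form_two (u v : Fin 2 → F) : C.form u v = u 0 * C.bar (v 0) + u 1 * C.bar (v 1) := by
  simp [UCtx.form, Fin.sum_univ_two]

theorem form_gu (A : ↥(Cfsg.GU 2 F q)) (u v : Fin 2 → F) :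
    C.form (A.1.1 *ᵥ u) (A.1.1 *ᵥ v) = C.form u v :=
  C.mem_gu_iff.1 A.2 u v

theorem two_cols (u s : Fin 2 → F) (c : Fin 2 → F) :
    (Matrix.of fun i j => ![u, s] j i) *ᵥ c = c 0 • u + c 1 • s := by
  funext i
  simp [Matrix.mulVec, dotProduct, Fin.sum_univ_two, mul_comm]

/-- Two elements with eigenbases of equal Gram matrix and equal eigenvalues are conjugate. -/
theorem isConj_of_bases {A B : ↥(Cfsg.GU 2 F q)} {l m : F} {u s u' s' : Fin 2 → F}
    (hu : A.1.1 *ᵥ u = l • u) (hs : A.1.1 *ᵥ s = m • s)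
    (hu' : B.1.1 *ᵥ u' = l • u') (hs' : B.1.1 *ᵥ s' = m • s')
    (hlm : l ≠ m) (hu0 : u ≠ 0) (hs0 : s ≠ 0) (hu'0 : u' ≠ 0) (hs'0 : s' ≠ 0)
    (g00 : C.form u u = C.form u' u') (g01 : C.form u s = C.form u' s')
    (g11 : C.form s s = C.form s' s') : IsConj A B := by
  have g10 : C.form s u = C.form s' u' := by
    rw [← C.bar_form u s, ← C.bar_form u' s', g01]
  have det_ne : ∀ (X : ↥(Cfsg.GU 2 F q)) (a b : Fin 2 → F), X.1.1 *ᵥ a = l • a → X.1.1 *ᵥ b = m • b →
      a ≠ 0 → b ≠ 0 → (Matrix.of fun i j => ![a, b] j i).det ≠ 0 := by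
    intro X a b ha hb ha0 hb0 h0
    obtain ⟨c, hc, e⟩ := Matrix.exists_mulVec_eq_zero_iff.2 h0
    rw [two_cols] at e
    have e2 := congrArg (fun v => X.1.1 *ᵥ v) e
    simp only [Matrix.mulVec_add, Matrix.mulVec_smul, ha, hb, Matrix.mulVec_zero] at e2
    have e3 : (c 0 * (l - m)) • a = 0 := by
      calc (c 0 * (l - m)) • a = (c 0 • l • a + c 1 • m • b) - m • (c 0 • a + c 1 • b) := by module
        _ = 0 := by rw [e, e2, smul_zero, sub_zero]
    have hc0 : c 0 = 0 :=
      (mul_eq_zero.1 ((smul_eq_zero.1 e3).resolve_right ha0)).resolve_right (sub_ne_zero.2 hlm)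
    rw [hc0, zero_smul, zero_add] at e
    exact hc (funext fun i => by
      fin_cases i
      · exact hc0
      · exact (smul_eq_zero.1 e).resolve_right hb0)
  set P := GeneralLinearGroup.mkOfDetNeZero _ (det_ne A u s hu hs hu0 hs0) with hP
  set P' := GeneralLinearGroup.mkOfDetNeZero _ (det_ne B u' s' hu' hs' hu'0 hs'0) with hP'
  have hPc : ∀ c, P.1 *ᵥ c = c 0 • u + c 1 • s := fun c => two_cols u s c
  have hP'c : ∀ c, P'.1 *ᵥ c = c 0 • u' + c 1 • s' := fun c => two_cols u' s' c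
  have hg : P' * P⁻¹ ∈ Cfsg.GU 2 F q := by
    refine C.mem_gu_iff.2 fun a b => ?_
    obtain ⟨c, rfl⟩ : ∃ c, a = P.1 *ᵥ c := ⟨(P⁻¹ : GL (Fin 2) F).1 *ᵥ a, by
      rw [Matrix.mulVec_mulVec, Units.mul_inv, Matrix.one_mulVec]⟩
    obtain ⟨d, rfl⟩ : ∃ d, b = P.1 *ᵥ d := ⟨(P⁻¹ : GL (Fin 2) F).1 *ᵥ b, by
      rw [Matrix.mulVec_mulVec, Units.mul_inv, Matrix.one_mulVec]⟩
    simp only [Units.val_mul, Matrix.mulVec_mulVec]
    rw [mul_assoc, Units.inv_mul, mul_one, hP'c, hP'c, hPc, hPc]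
    simp only [C.form_add_left, C.form_add_right, C.form_smul_left, C.form_smul_right, g00, g01,
      g10, g11]
  have key : A.1.1 * P.1 = P.1 * !![l, 0; 0, m] := by
    apply Matrix.toLin'.injective
    refine LinearMap.ext fun c => ?_
    rw [Matrix.toLin'_apply, Matrix.toLin'_apply, ← Matrix.mulVec_mulVec, ← Matrix.mulVec_mulVec,
      hPc, hPc, Matrix.mulVec_add, Matrix.mulVec_smul, Matrix.mulVec_smul, hu, hs]
    simp [Matrix.mulVec, dotProduct, Fin.sum_univ_two, smul_smul, mul_comm]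
  have key' : B.1.1 * P'.1 = P'.1 * !![l, 0; 0, m] := by
    apply Matrix.toLin'.injective
    refine LinearMap.ext fun c => ?_
    rw [Matrix.toLin'_apply, Matrix.toLin'_apply, ← Matrix.mulVec_mulVec, ← Matrix.mulVec_mulVec,
      hP'c, hP'c, Matrix.mulVec_add, Matrix.mulVec_smul, Matrix.mulVec_smul, hu', hs']
    simp [Matrix.mulVec, dotProduct, Fin.sum_univ_two, smul_smul, mul_comm]
  refine isConj_iff.2 ⟨⟨P' * P⁻¹, hg⟩, ?_⟩
  rw [mul_inv_eq_iff_eq_mul]
  refine Subtype.ext (Units.ext ?_)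
  show P'.1 * (P⁻¹ : GL (Fin 2) F).1 * A.1.1 = B.1.1 * (P'.1 * (P⁻¹ : GL (Fin 2) F).1)
  calc P'.1 * (P⁻¹ : GL (Fin 2) F).1 * A.1.1
      = P'.1 * (P⁻¹ : GL (Fin 2) F).1 * (A.1.1 * P.1) * (P⁻¹ : GL (Fin 2) F).1 := by
        rw [← mul_assoc, mul_assoc _ P.1, Units.mul_inv, mul_one]
    _ = P'.1 * !![l, 0; 0, m] * (P⁻¹ : GL (Fin 2) F).1 := by
        rw [key, ← mul_assoc, mul_assoc _ _ P.1, Units.inv_mul, mul_one]
    _ = B.1.1 * (P'.1 * (P⁻¹ : GL (Fin 2) F).1) := by rw [← key', mul_assoc]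

variable [Fintype F]

theorem exists_unit_eigen (A : ↥(Cfsg.GU 2 F q)) {l : F} {u : Fin 2 → F}
    (hu : A.1.1 *ᵥ u = l • u) (hn : C.form u u ≠ 0) :
    ∃ u', A.1.1 *ᵥ u' = l • u' ∧ C.form u' u' = 1 := by
  obtain ⟨a, ha⟩ := C.exists_norm (c := (C.form u u)⁻¹) (by rw [map_inv₀, C.form_self_fixed])
  refine ⟨a • u, by rw [Matrix.mulVec_smul, hu, smul_comm], ?_⟩
  rw [C.form_smul_left, C.form_smul_right, ← mul_assoc, ha, inv_mul_cancel₀ hn]

/-- Eigenvectors of an involution other than `±1`, normalised. -/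
theorem exists_invol_basis (h2 : (2 : F) ≠ 0) {A : ↥(Cfsg.GU 2 F q)} (hsq : A.1.1 * A.1.1 = 1)
    (h1 : A.1.1 ≠ 1) (hm1 : A.1.1 ≠ -1) :
    ∃ u s : Fin 2 → F, A.1.1 *ᵥ u = (1 : F) • u ∧ A.1.1 *ᵥ s = (-1 : F) • s ∧ u ≠ 0 ∧ s ≠ 0 ∧
      C.form u u = 1 ∧ C.form u s = 0 ∧ C.form s s = 1 := by
  set a := A.1.1 with ha
  obtain ⟨v, hv⟩ : ∃ v : Fin 2 → F, v + a *ᵥ v ≠ 0 := by
    by_contra hc
    push Not at hc
    refine hm1 (Matrix.toLin'.injective (LinearMap.ext fun v => ?_))
    rw [Matrix.toLin'_apply, Matrix.toLin'_apply, Matrix.neg_mulVec, Matrix.one_mulVec]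
    exact eq_neg_of_add_eq_zero_right (hc v)
  obtain ⟨w, hw⟩ : ∃ v : Fin 2 → F, v - a *ᵥ v ≠ 0 := by
    by_contra hc
    push Not at hc
    refine h1 (Matrix.toLin'.injective (LinearMap.ext fun v => ?_))
    rw [Matrix.toLin'_apply, Matrix.toLin'_apply, Matrix.one_mulVec]
    exact (sub_eq_zero.1 (hc v)).symm
  set u := v + a *ᵥ v with hu
  set s := w - a *ᵥ w with hs
  have hau : a *ᵥ u = (1 : F) • u := by
    rw [hu, one_smul, Matrix.mulVec_add, Matrix.mulVec_mulVec, hsq, Matrix.one_mulVec, add_comm]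
  have has : a *ᵥ s = (-1 : F) • s := by
    rw [hs, neg_one_smul, Matrix.mulVec_sub, Matrix.mulVec_mulVec, hsq, Matrix.one_mulVec, neg_sub]
  have hus : C.form u s = 0 := by
    have h := form_gu C A u s
    rw [hau, has, one_smul, neg_one_smul, C.form_neg_right] at h
    exact (mul_eq_zero.1 (by linear_combination -h : (2 : F) * C.form u s = 0)).resolve_left h2
  have hdec : ∀ y : Fin 2 → F, (2 : F) • y = (y + a *ᵥ y) + (y - a *ᵥ y) := fun y => by module
  have hline : ∀ (x e : Fin 2 → F) (l m : F), a *ᵥ x = l • x → a *ᵥ e = m • e → l ≠ m → e ≠ 0 →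
      x ≠ 0 → C.form x e = 0 → C.form x x ≠ 0 := by
    intro x e l m hx he hlm he0 hx0 hxe hxx
    refine hx0 (C.eq_zero_of_form fun y => ?_)
    have hdet : (Matrix.of fun i j => ![x, e] j i).det ≠ 0 := by
      intro h0
      obtain ⟨c, hc, e1⟩ := Matrix.exists_mulVec_eq_zero_iff.2 h0
      rw [two_cols] at e1
      have e2 := congrArg (fun v => a *ᵥ v) e1
      simp only [Matrix.mulVec_add, Matrix.mulVec_smul, hx, he, Matrix.mulVec_zero] at e2
      have e3 : (c 0 * (l - m)) • x = 0 := by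
        calc (c 0 * (l - m)) • x = (c 0 • l • x + c 1 • m • e) - m • (c 0 • x + c 1 • e) := by module
          _ = 0 := by rw [e1, e2, smul_zero, sub_zero]
      have hc0 : c 0 = 0 :=
        (mul_eq_zero.1 ((smul_eq_zero.1 e3).resolve_right hx0)).resolve_right (sub_ne_zero.2 hlm)
      rw [hc0, zero_smul, zero_add] at e1
      exact hc (funext fun i => by
        fin_cases i
        · exact hc0
        · exact (smul_eq_zero.1 e1).resolve_right he0)
    obtain ⟨c, rfl⟩ : ∃ c, (Matrix.of fun i j => ![x, e] j i) *ᵥ c = y :=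
      Matrix.mulVec_surjective_iff_isUnit.2
        ((Matrix.isUnit_iff_isUnit_det _).2 (Ne.isUnit hdet)) y
    rw [two_cols, C.form_add_right, C.form_smul_right, C.form_smul_right, hxx, hxe]
    ring
  have hne : (1 : F) ≠ -1 := fun h => h2 (by linear_combination h)
  obtain ⟨u', hu', hu'1⟩ := exists_unit_eigen C A hau (hline u s 1 (-1) hau has hne hw hv hus)
  obtain ⟨s', hs', hs'1⟩ := exists_unit_eigen C A has
    (hline s u (-1) 1 has hau hne.symm hv hw (C.form_swap_zero hus))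
  refine ⟨u', s', hu', hs', ?_, ?_, hu'1, ?_, hs'1⟩
  · rintro rfl; rw [C.form_zero_left] at hu'1; exact zero_ne_one hu'1
  · rintro rfl; rw [C.form_zero_left] at hs'1; exact zero_ne_one hs'1
  · have h := form_gu C A u' s'
    rw [hu', hs', one_smul, neg_one_smul, C.form_neg_right] at h
    exact (mul_eq_zero.1 (by linear_combination -h : (2 : F) * C.form u' s' = 0)).resolve_left h2

include C in
/-- All involutions of `GU₂` other than `-1` are conjugate. -/
theorem isConj_invol (h2 : (2 : F) ≠ 0) {A B : ↥(Cfsg.GU 2 F q)}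
    (hA : A.1.1 * A.1.1 = 1) (hA1 : A.1.1 ≠ 1) (hA2 : A.1.1 ≠ -1)
    (hB : B.1.1 * B.1.1 = 1) (hB1 : B.1.1 ≠ 1) (hB2 : B.1.1 ≠ -1) : IsConj A B := by
  obtain ⟨u, s, hu, hs, hu0, hs0, g1, g2, g3⟩ := exists_invol_basis C h2 hA hA1 hA2
  obtain ⟨u', s', hu', hs', hu'0, hs'0, g1', g2', g3'⟩ := exists_invol_basis C h2 hB hB1 hB2
  exact isConj_of_bases C hu hs hu' hs' (fun h => h2 (by linear_combination h)) hu0 hs0 hu'0 hs'0
    (g1.trans g1'.symm) (g2.trans g2'.symm) (g3.trans g3'.symm)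

include C in
/-- All square roots of `-1` in `GU₂` are conjugate, when such scalars are not unitary. -/
theorem isConj_four (h2 : (2 : F) ≠ 0) {ι : F} (hι : ι * ι = -1) (hιn : ι * C.bar ι = -1)
    {A B : ↥(Cfsg.GU 2 F q)} (hA : A.1.1 * A.1.1 = -1) (hB : B.1.1 * B.1.1 = -1) :
    IsConj A B := by
  have hι0 : ι ≠ 0 := by
    rintro rfl
    rw [mul_zero] at hι
    exact neg_ne_zero.2 one_ne_zero hι.symm
  have hne : ι ≠ -ι := fun h => hι0 ((mul_eq_zero.1
    (by linear_combination h : (2 : F) * ι = 0)).resolve_left h2)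
  have key : ∀ (X : ↥(Cfsg.GU 2 F q)), X.1.1 * X.1.1 = -1 → ∃ u s : Fin 2 → F,
      X.1.1 *ᵥ u = ι • u ∧ X.1.1 *ᵥ s = (-ι) • s ∧ u ≠ 0 ∧ s ≠ 0 ∧
      C.form u u = 0 ∧ C.form u s = 1 ∧ C.form s s = 0 := by
    intro X hX
    set a := X.1.1 with ha
    have haa : ∀ v, a *ᵥ (a *ᵥ v) = -v := fun v => by
      rw [Matrix.mulVec_mulVec, hX, Matrix.neg_mulVec, Matrix.one_mulVec]
    have hiso : ∀ (e : Fin 2 → F) (l : F), l * C.bar l = -1 → a *ᵥ e = l • e → C.form e e = 0 := by
      intro e l hl he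
      have h := form_gu C X e e
      rw [he, C.form_smul_left, C.form_smul_right, ← mul_assoc, hl] at h
      exact (mul_eq_zero.1 (by linear_combination -h : (2 : F) * C.form e e = 0)).resolve_left h2
    have hex : ∀ l : F, l * l = -1 → l * C.bar l = -1 → ∃ e, e ≠ 0 ∧ a *ᵥ e = l • e := by
      intro l hl hln
      by_contra hc
      push Not at hc
      have hall : ∀ v : Fin 2 → F, v - l • (a *ᵥ v) = 0 := by
        intro v
        by_contra hne'
        refine hc _ hne' ?_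
        rw [Matrix.mulVec_sub, Matrix.mulVec_smul, haa, smul_sub, smul_smul, hl, neg_one_smul]
        module
      have hscal : ∀ v : Fin 2 → F, a *ᵥ v = (-l) • v := fun v => by
        have h := sub_eq_zero.1 (hall v)
        calc a *ᵥ v = ((-l) * l) • (a *ᵥ v) := by rw [neg_mul, hl, neg_neg, one_smul]
          _ = (-l) • v := by rw [← smul_smul, ← h]
      have hne1 : (Pi.single 0 1 : Fin 2 → F) ≠ 0 := fun h => one_ne_zero (α := F) (by
        simpa using congrFun h 0)
      have h := hiso _ (-l) (by rw [map_neg, neg_mul_neg, hln]) (hscal (Pi.single 0 1))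
      rw [form_two] at h
      simp at h
    obtain ⟨e, he0, he⟩ := hex ι hι hιn
    obtain ⟨f, hf0, hf⟩ := hex (-ι) (by rw [neg_mul_neg, hι]) (by rw [map_neg, neg_mul_neg, hιn])
    have hee := hiso e ι hιn he
    have hff := hiso f (-ι) (by rw [map_neg, neg_mul_neg, hιn]) hf
    have hef : C.form e f ≠ 0 := by
      intro h0
      refine he0 (C.eq_zero_of_form fun y => ?_)
      have e1 : y = (2 : F)⁻¹ • ((y - ι • (a *ᵥ y)) + (y + ι • (a *ᵥ y))) := by
        rw [show (y - ι • (a *ᵥ y)) + (y + ι • (a *ᵥ y)) = (2 : F) • y by module, smul_smul,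
          inv_mul_cancel₀ h2, one_smul]
      have hsp : ∀ (x : Fin 2 → F) (l : F), l * l = -1 → a *ᵥ x = l • x → ∀ e', e' ≠ 0 →
          a *ᵥ e' = l • e' → ∀ f', f' ≠ 0 → a *ᵥ f' = (-l) • f' → C.form e e' = 0 →
          C.form e f' = 0 → C.form e x = 0 := by
        intro x l hl hx e' he' hae' f' hf' haf' h1 h2'
        have hdet : (Matrix.of fun i j => ![e', f'] j i).det ≠ 0 := by
          intro h0
          obtain ⟨c, hc, e2⟩ := Matrix.exists_mulVec_eq_zero_iff.2 h0
          rw [two_cols] at e2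
          have e3 := congrArg (fun v => a *ᵥ v) e2
          simp only [Matrix.mulVec_add, Matrix.mulVec_smul, hae', haf', Matrix.mulVec_zero] at e3
          have e4 : (c 0 * (2 * l)) • e' = 0 := by
            calc (c 0 * (2 * l)) • e'
                = (c 0 • l • e' + c 1 • (-l) • f') + l • (c 0 • e' + c 1 • f') := by module
              _ = 0 := by rw [e2, e3, smul_zero, add_zero]
          have hl0 : l ≠ 0 := by
            rintro rfl
            rw [mul_zero] at hl
            exact neg_ne_zero.2 one_ne_zero hl.symm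
          have hc0 : c 0 = 0 := (mul_eq_zero.1 ((smul_eq_zero.1 e4).resolve_right he')).resolve_right
            (mul_ne_zero h2 hl0)
          rw [hc0, zero_smul, zero_add] at e2
          exact hc (funext fun i => by
            fin_cases i
            · exact hc0
            · exact (smul_eq_zero.1 e2).resolve_right hf')
        obtain ⟨c, rfl⟩ : ∃ c, (Matrix.of fun i j => ![e', f'] j i) *ᵥ c = x :=
          Matrix.mulVec_surjective_iff_isUnit.2
            ((Matrix.isUnit_iff_isUnit_det _).2 (Ne.isUnit hdet)) x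
        rw [two_cols, C.form_add_right, C.form_smul_right, C.form_smul_right, h1, h2']
        ring
      rw [e1, C.form_smul_right, C.form_add_right]
      have p1 : C.form e (y - ι • (a *ᵥ y)) = 0 :=
        hsp _ ι hι (by
          rw [Matrix.mulVec_sub, Matrix.mulVec_smul, haa, smul_sub, smul_smul, hι, neg_one_smul]
          module) e he0 he f hf0 hf hee h0
      have p2 : C.form e (y + ι • (a *ᵥ y)) = 0 :=
        hsp _ (-ι) (by rw [neg_mul_neg, hι]) (by
          rw [Matrix.mulVec_add, Matrix.mulVec_smul, haa, smul_add, smul_smul, neg_mul, hι, neg_neg,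
            one_smul]
          module) f hf0 hf e he0 (by rw [neg_neg]; exact he) h0 hee
      rw [p1, p2, add_zero, mul_zero]
    refine ⟨(C.form e f)⁻¹ • e, f, by rw [Matrix.mulVec_smul, he, smul_comm], hf,
      smul_ne_zero (inv_ne_zero hef) he0, hf0, ?_, ?_, hff⟩
    · rw [C.form_smul_left, C.form_smul_right, hee, mul_zero, mul_zero]
    · rw [C.form_smul_left, inv_mul_cancel₀ hef]
  obtain ⟨u, s, hu, hs, hu0, hs0, g1, g2, g3⟩ := key A hA
  obtain ⟨u', s', hu', hs', hu'0, hs'0, g1', g2', g3'⟩ := key B hB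
  exact isConj_of_bases C hu hs hu' hs' hne hu0 hs0 hu'0 hs'0 (g1.trans g1'.symm)
    (g2.trans g2'.symm) (g3.trans g3'.symm)

include C in
/-- The square of an element of order four is `-1` when square roots of `-1` have norm `-1`. -/
theorem sq_four (h2 : (2 : F) ≠ 0) (hns : ∀ t : F, t * t = -1 → t * C.bar t = -1)
    {A : ↥(Cfsg.GU 2 F q)} (h4 : A.1.1 * A.1.1 * (A.1.1 * A.1.1) = 1)
    (h1 : A.1.1 * A.1.1 ≠ 1) : A.1.1 * A.1.1 = -1 := by
  by_contra hne
  have hA2 : ((A * A : ↥(Cfsg.GU 2 F q))).1.1 = A.1.1 * A.1.1 := rfl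
  obtain ⟨u, s, hu, hs, hu0, hs0, g1, g2, g3⟩ :=
    exists_invol_basis C h2 (A := A * A) (by rw [hA2]; exact h4) (by rw [hA2]; exact h1)
      (by rw [hA2]; exact hne)
  rw [hA2, ← Matrix.mulVec_mulVec] at hs
  -- `A` preserves the `-1`-eigenline
  have hdet : (Matrix.of fun i j => ![u, s] j i).det ≠ 0 := by
    intro h0
    obtain ⟨c, hc, e⟩ := Matrix.exists_mulVec_eq_zero_iff.2 h0
    rw [two_cols] at e
    have e0 := congrArg (fun v => C.form v u) e
    have e1 := congrArg (fun v => C.form v s) e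
    simp only [C.form_add_left, C.form_smul_left, g1, g2, g3, C.form_swap_zero g2, C.form_zero_left,
      mul_one, mul_zero, add_zero, zero_add] at e0 e1
    exact hc (funext fun i => by fin_cases i <;> assumption)
  obtain ⟨c, hc⟩ : ∃ c, (Matrix.of fun i j => ![u, s] j i) *ᵥ c = A.1.1 *ᵥ s :=
    Matrix.mulVec_surjective_iff_isUnit.2
      ((Matrix.isUnit_iff_isUnit_det _).2 (Ne.isUnit hdet)) _
  rw [two_cols] at hc
  have hc0 : c 0 = 0 := by
    rw [hA2, ← Matrix.mulVec_mulVec, one_smul] at hu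
    have hA3 : A.1.1 *ᵥ (A.1.1 *ᵥ (A.1.1 *ᵥ s)) = -(A.1.1 *ᵥ s) := by
      rw [hs, neg_one_smul, Matrix.mulVec_neg]
    rw [← hc, Matrix.mulVec_add, Matrix.mulVec_add, Matrix.mulVec_smul, Matrix.mulVec_smul,
      Matrix.mulVec_smul, Matrix.mulVec_smul, hu, hs] at hA3
    have e0 := congrArg (fun v => C.form v u) hA3
    simp only [C.form_add_left, C.form_smul_left, C.form_neg_left, g1, C.form_swap_zero g2,
      mul_one, mul_zero, add_zero] at e0
    exact (mul_eq_zero.1 (by linear_combination e0 : (2 : F) * c 0 = 0)).resolve_left h2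
  rw [hc0, zero_smul, zero_add] at hc
  have hsq : c 1 * c 1 = -1 := by
    have e := congrArg (fun v => C.form v s) hs
    rw [← hc, Matrix.mulVec_smul, ← hc] at e
    simp only [C.form_smul_left, g3, mul_one] at e
    exact e
  have hn := form_gu C A s s
  rw [← hc, C.form_smul_left, C.form_smul_right, g3, mul_one, hns _ hsq] at hn
  exact h2 (by linear_combination -hn)

end CfsgLib.PSUThreeTwo
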